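import Groth.Agent.ConeRetrLib.Veronese
import Groth.Agent.ProjQuotLib.Chart
import Groth.Agent.GrTildeLib.MulTwist
import Groth.Agent.GrTildeLib.IsoCrit
import Groth.Agent.QuotSchLib.Fibre

/-!
# Graded modules under the Veronese isomorphism
-/

set_option autoImplicit false
set_option maxHeartbeats 1000000
set_option linter.style.haveILetI false
universe u

open CategoryTheory AlgebraicGeometry TopologicalSpace Opposite HomogeneousLocalization
open GrTildeLib

noncomputable section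

namespace VerTwistLib

variable {R A : Type u} [CommRing R] [CommRing A] [Algebra R A] {𝒜 : ℕ → Submodule R A} [GradedAlgebra 𝒜]
  {B : Type u} [CommRing B] [Algebra R B] {ℬ : ℕ → Submodule R B} [GradedAlgebra ℬ]
  {φ : B →ₐ[R] A}
  {M : Type u} [AddCommGroup M] [Module R M] [Module A M] {ℳ : ℕ → Submodule R M} [SetLike.GradedSMul 𝒜 ℳ]
  {N : Type u} [AddCommGroup N] [Module R N] [Module B N] {𝒩 : ℕ → Submodule R N} [SetLike.GradedSMul ℬ 𝒩]
  (e : Proj 𝒜 ≅ Proj ℬ)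
  (hid : ∀ x : Proj 𝒜, (e.hom x).asHomogeneousIdeal.toIdeal = Ideal.comap φ.toRingHom x.asHomogeneousIdeal.toIdeal)
  (v : N →ₛₗ[φ.toRingHom] M)

include hid in
theorem nin (x : Proj 𝒜) {s : B} (hs : s ∉ (e.hom x).asHomogeneousIdeal.toIdeal) :
    φ s ∉ x.asHomogeneousIdeal.toIdeal := fun h => hs ((hid x).ge h)

/-- the map on localisations -/
def locφ (x : Proj 𝒜) : Twist.Loc ℬ (e.hom x) →+* Twist.Loc 𝒜 x :=
  Localization.localRingHom _ _ φ.toRingHom (hid x)

theorem locφ_mk (x : Proj 𝒜) (a : B) (s : (e.hom x).asHomogeneousIdeal.toIdeal.primeCompl) :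
    locφ e hid x (Localization.mk a s) = Localization.mk (φ a) ⟨φ s, nin e hid x s.2⟩ :=
  Localization.localRingHom_mk _ _ _ _ _ _

/-- the map on localised modules -/
def psi (x : Proj 𝒜) : GrTilde.LocMod ℬ (M := N) (e.hom x) →+ GrTilde.LocMod 𝒜 (M := M) x :=
  AddMonoidHom.mk'
    (fun q => LocalizedModule.liftOn q (fun p => LocalizedModule.mk (v p.1) ⟨φ p.2, nin e hid x p.2.2⟩)
      (by
        rintro ⟨n, s⟩ ⟨n', s'⟩ ⟨c, hc⟩
        refine LocalizedModule.mk_eq.mpr ⟨⟨φ c, nin e hid x c.2⟩, ?_⟩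
        have h := congrArg v hc
        simp only [Submonoid.smul_def, map_smulₛₗ] at h ⊢
        exact h))
    (fun q q' => by
      induction q using LocalizedModule.induction_on with
      | h n s =>
        induction q' using LocalizedModule.induction_on with
        | h n' s' =>
          rw [LocalizedModule.mk_add_mk, LocalizedModule.liftOn_mk, LocalizedModule.liftOn_mk,
            LocalizedModule.liftOn_mk, LocalizedModule.mk_add_mk]
          simp only [Submonoid.smul_def, map_add, map_smulₛₗ, Submonoid.coe_mul, map_mul]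
          rfl)

theorem psi_mk (x : Proj 𝒜) (n : N) (s : (e.hom x).asHomogeneousIdeal.toIdeal.primeCompl) :
    psi e hid v x (LocalizedModule.mk n s) = LocalizedModule.mk (v n) ⟨φ s, nin e hid x s.2⟩ := rfl

theorem psi_smul (x : Proj 𝒜) (c : Twist.Loc ℬ (e.hom x)) (q : GrTilde.LocMod ℬ (M := N) (e.hom x)) :
    psi e hid v x (c • q) = locφ e hid x c • psi e hid v x q := by
  induction c using Localization.induction_on with
  | H y =>
    induction q using LocalizedModule.induction_on with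
    | h n s =>
      rw [LocalizedModule.mk_smul_mk, locφ_mk, psi_mk, psi_mk, LocalizedModule.mk_smul_mk, map_smulₛₗ]
      congr 1
      exact Subtype.ext (map_mul φ _ _)

variable {d : ℕ} (hd : 0 < d) (hdeg : ∀ n : ℕ, Submodule.map φ.toLinearMap (ℬ n) = 𝒜 (n * d))
  (he : ∀ (n : ℕ) (g : B) (hn : 0 < n) (hg : g ∈ ℬ n)
        (θ : CommRingCat.of (HomogeneousLocalization.Away ℬ g) ⟶ CommRingCat.of (HomogeneousLocalization.Away 𝒜 (φ g))),
        (algebraMap (HomogeneousLocalization.Away 𝒜 (φ g)) (Localization.Away (φ g))).comp θ.hom =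
          (Localization.awayMap φ.toRingHom g).comp
            (algebraMap (HomogeneousLocalization.Away ℬ g) (Localization.Away g)) →
        Proj.awayι 𝒜 (φ g) ((hdeg n).le (Submodule.mem_map_of_mem hg)) (Nat.mul_pos hn hd) ≫ e.hom =
          Spec.map θ ≫ Proj.awayι ℬ g hg hn)

include he in
theorem chart_eq (i : ConeRetrLib.Idx ℬ) : ConeRetrLib.verChart hd hdeg i ≫ e.hom =
    Spec.map (CommRingCat.ofHom (ConeRetrLib.verHom (𝒜 := 𝒜) hdeg i)) ≫ Proj.awayι ℬ i.el i.mem i.pos :=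
  he i.deg i.el i.pos i.mem _ (RingHom.ext fun a => ConeRetrLib.verHom_val hdeg i a)

include he in
theorem asIdeal_eq (hφ : Function.Injective φ) (x : Proj 𝒜) :
    (e.hom x).asHomogeneousIdeal.toIdeal = Ideal.comap φ.toRingHom x.asHomogeneousIdeal.toIdeal :=
  ConeRetrLib.verIso_asIdeal hd hdeg e (chart_eq e hd hdeg he) hφ x

include he in
/-- functions pull back by `φ` -/
theorem val_app {V : (Proj ℬ).Opens} (c : Γ(Proj ℬ, V)) (x : ↥(e.hom ⁻¹ᵁ V)) :
    ((show Twist.O (op (e.hom ⁻¹ᵁ V)) from e.hom.app V c).1 x).val =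
      locφ e hid x.1 ((show Twist.O (op V) from c).1 ⟨e.hom x.1, x.2⟩).val := by
  obtain ⟨W, hyW, hWV, k, ⟨r, hr⟩, ⟨t, ht⟩, hnin, hw⟩ := (show Twist.O (op V) from c).2 ⟨e.hom x.1, x.2⟩
  obtain ⟨e₀, g', he₀, hg', hyg', hgW'⟩ := exists_homogeneous_basicOpen ℬ hyW
  let g := g' * t
  let b := g' * r
  have hg : g ∈ ℬ (e₀ + k) := SetLike.mul_mem_graded hg' ht
  have hb : b ∈ ℬ (1 • (e₀ + k)) := by rw [one_smul]; exact SetLike.mul_mem_graded hg' hr
  have hpos : 0 < e₀ + k := Nat.add_pos_left he₀ _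
  have hgW : Proj.basicOpen ℬ g ≤ W := (Proj.basicOpen_mono ℬ g' g ⟨t, rfl⟩).trans hgW'
  have hgV : Proj.basicOpen ℬ g ≤ V := hgW.trans hWV.le
  let i : ConeRetrLib.Idx ℬ := ⟨e₀ + k, g, hpos, hg⟩
  have hxg : φ g ∉ x.1.asHomogeneousIdeal.toIdeal := nin e hid x.1 fun h =>
    ((e.hom x.1).isPrime.mem_or_mem h).elim hyg' (hnin ⟨_, hyW⟩)
  have hc : (Proj ℬ).presheaf.map (homOfLE hgV).op c =
      Proj.awayToSection ℬ g (Away.mk ℬ hg 1 b hb) := by
    refine Subtype.ext (funext fun z => HomogeneousLocalization.val_injective _ ?_)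
    refine Eq.trans ?_ (val_awayToSection hg hb z).symm
    refine (congrArg HomogeneousLocalization.val (hw ⟨z.1, hgW z.2⟩)).trans ?_
    rw [HomogeneousLocalization.val_mk]
    refine Localization.mk_eq_mk_iff.mpr (Localization.r_iff_exists.mpr ⟨1, ?_⟩)
    simp [g, b]
    ring
  have hF := Groth.Agent.ProjQuot.chart_appLE e.hom hg hpos (ConeRetrLib.ver_mem hdeg hg) (Nat.mul_pos hpos hd)
    (CommRingCat.ofHom (ConeRetrLib.verHom (𝒜 := 𝒜) hdeg i)) (chart_eq e hd hdeg he i)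
  have hle : Proj.basicOpen 𝒜 (φ g) ≤ e.hom ⁻¹ᵁ Proj.basicOpen ℬ g :=
    Groth.Agent.ProjQuot.chart_le e.hom hg hpos (ConeRetrLib.ver_mem hdeg hg) (Nat.mul_pos hpos hd)
    (CommRingCat.ofHom (ConeRetrLib.verHom (𝒜 := 𝒜) hdeg i)) (chart_eq e hd hdeg he i)
  have hb' : φ b ∈ 𝒜 (1 • ((e₀ + k) * d)) := by
    rw [one_smul]; exact ConeRetrLib.ver_mem hdeg (by simpa using hb)
  have hθ : ConeRetrLib.verHom (𝒜 := 𝒜) hdeg i (Away.mk ℬ hg 1 b hb) =
      Away.mk 𝒜 (ConeRetrLib.ver_mem hdeg hg) 1 (φ b) hb' := by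
    refine HomogeneousLocalization.val_injective _ ?_
    rw [ConeRetrLib.verHom_val, Away.val_mk, Away.val_mk, Localization.mk_eq_mk', Localization.mk_eq_mk',
      Localization.awayMap, IsLocalization.Away.map, IsLocalization.map_mk']
    congr 1
    exact Subtype.ext (map_pow φ g 1)
  have h1 : (Proj 𝒜).presheaf.map (homOfLE (hle.trans (e.hom.preimage_mono hgV))).op (e.hom.app V c) =
      Proj.awayToSection 𝒜 (φ g) (Away.mk 𝒜 (ConeRetrLib.ver_mem hdeg hg) 1 (φ b) hb') := by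
    have h2 := congrArg (fun χ => χ.hom (Away.mk ℬ hg 1 b hb)) hF
    simp only [CommRingCat.hom_comp, RingHom.comp_apply, CommRingCat.hom_ofHom] at h2
    erw [← hc, hθ] at h2
    refine Eq.trans ?_ h2
    exact (congrArg (fun χ => χ.hom c) (Scheme.Hom.map_appLE e.hom hle (homOfLE hgV).op)).symm
  have h3 := congrArg (fun s => ((show Twist.O (op (Proj.basicOpen 𝒜 (φ g))) from s).1 ⟨x.1, hxg⟩).val) h1
  refine (Eq.trans rfl h3).trans ?_
  refine (val_awayToSection (ConeRetrLib.ver_mem hdeg hg) hb' ⟨x.1, hxg⟩).trans ?_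
  refine Eq.trans ?_ (congrArg (fun q => locφ e hid x.1 (HomogeneousLocalization.val q)) (hw ⟨_, hyW⟩)).symm
  rw [HomogeneousLocalization.val_mk, locφ_mk]
  refine Localization.mk_eq_mk_iff.mpr (Localization.r_iff_exists.mpr ⟨1, ?_⟩)
  simp [g, b]
  ring

variable (n : ℤ)
variable (hvdeg : ∀ n : ℕ, (𝒩 n : Set N).image v = (ℳ (n * d) : Set M))

/-- the map on sections -/
def secMap {V : (Proj ℬ).Opens} (t : Γ(GrTilde.tilde ℬ 𝒩 n, V)) :
    Γ(GrTilde.tilde 𝒜 ℳ (n * d), e.hom ⁻¹ᵁ V) :=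
  secOf (fun x => psi e hid v x.1 (val t ⟨e.hom x.1, x.2⟩)) fun x => by
    obtain ⟨W, hxW, hW, i, j, m, s, hm, hs, hnin, hij, hv'⟩ := val_exists t ⟨e.hom x.1, x.2⟩
    refine ⟨e.hom ⁻¹ᵁ W, hxW, e.hom.preimage_mono hW, i * d, j * d, v m, φ s, (hvdeg i).le ⟨m, hm, rfl⟩,
      (hdeg j).le (Submodule.mem_map_of_mem hs), fun y => nin e hid y.1 (hnin ⟨_, y.2⟩), ?_, fun y => ?_⟩
    · rcases hij with h | h
      · exact Or.inl (by push_cast; rw [h]; ring)
      · exact Or.inr (by rw [h, map_zero])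
    · exact (congrArg (psi e hid v y.1) (hv' ⟨e.hom y.1, y.2⟩)).trans (psi_mk e hid v y.1 m _)

theorem val_secMap {V : (Proj ℬ).Opens} (t : Γ(GrTilde.tilde ℬ 𝒩 n, V)) (x : ↥(e.hom ⁻¹ᵁ V)) :
    val (secMap e hid v hdeg n hvdeg t) x = psi e hid v x.1 (val t ⟨e.hom x.1, x.2⟩) := rfl

/-- the comparison map -/
def hom : GrTilde.tilde ℬ 𝒩 n ⟶ (Scheme.Modules.pushforward e.hom).obj (GrTilde.tilde 𝒜 ℳ (n * d)) :=
  ⟨PresheafOfModules.homMk (M₁ := (GrTilde.tilde ℬ 𝒩 n).val)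
    (M₂ := ((Scheme.Modules.pushforward e.hom).obj (GrTilde.tilde 𝒜 ℳ (n * d))).val)
    { app := fun W => AddCommGrpCat.ofHom
        (AddMonoidHom.mk' (fun t : Γ(GrTilde.tilde ℬ 𝒩 n, W.unop) => secMap e hid v hdeg n hvdeg t)
          (fun t t' => sec_ext fun x => (congrArg (psi e hid v x.1) (GrTildeLib.val_add t t' _)).trans (map_add _ _ _)))
      naturality := fun W W' j => by ext t; rfl }
    (fun W r t => sec_ext (V := e.hom ⁻¹ᵁ W.unop) fun x => by
      refine (val_secMap e hid v hdeg n hvdeg _ x).trans ?_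
      refine Eq.trans ?_ (GrTildeLib.val_smul (e.hom.app W.unop r) (secMap e hid v hdeg n hvdeg t) x).symm
      rw [val_app e hid hd hdeg he]
      exact (congrArg (psi e hid v x.1) (GrTildeLib.val_smul r t _)).trans (psi_smul e hid v x.1 _ _))⟩

variable [DirectSum.Decomposition ℳ]

theorem bijective_hom (hv : Function.Injective v) (i : ConeRetrLib.Idx ℬ) :
    Function.Bijective ((hom e hid v hd hdeg he n hvdeg).app (Proj.basicOpen ℬ i.el)) := by
  obtain ⟨e₀, g, he₀, hg⟩ := i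
  change Function.Bijective (secMap e hid v hdeg n hvdeg (V := Proj.basicOpen ℬ g))
  constructor
  · intro t t' htt
    refine sec_ext fun y => ?_
    obtain ⟨y, hy⟩ := y
    obtain ⟨x, rfl⟩ : ∃ x, e.hom x = y := ⟨e.inv y, by rw [← Scheme.Hom.comp_apply, e.inv_hom_id]; rfl⟩
    have h0 := congrArg (fun z => val z (⟨x, hy⟩ : ↥(e.hom ⁻¹ᵁ Proj.basicOpen ℬ g))) htt
    simp only [val_secMap] at h0
    rw [← sub_eq_zero, ← map_sub] at h0
    rw [← sub_eq_zero]
    have hsub : val (t - t') (⟨e.hom x, hy⟩ : ↥(Proj.basicOpen ℬ g)) =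
        val t ⟨e.hom x, hy⟩ - val t' ⟨e.hom x, hy⟩ := by
      rw [eq_sub_iff_add_eq, ← GrTildeLib.val_add, sub_add_cancel]
    rw [← hsub] at h0 ⊢
    obtain ⟨W, hxW, hW, a, j, m, s, hm, hs, hnin, -, hv'⟩ := val_exists (t - t') ⟨e.hom x, hy⟩
    have hq : val (t - t') (⟨e.hom x, hy⟩ : ↥(Proj.basicOpen ℬ g)) = LocalizedModule.mk m ⟨s, hnin ⟨_, hxW⟩⟩ :=
      hv' ⟨_, hxW⟩
    rw [hq] at h0 ⊢
    rw [psi_mk] at h0
    obtain ⟨k, w, hw, hwx, hw0⟩ :=
      exists_homogeneous_smul_eq_zero 𝒜 ℳ ((hvdeg a).le ⟨m, hm, rfl⟩) h0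
    obtain ⟨c, hc, hcw⟩ := (hdeg k).ge (show w ^ d ∈ 𝒜 (k * d) from
      (show d • k = k * d by rw [smul_eq_mul, mul_comm]) ▸ SetLike.pow_mem_graded d hw)
    change φ c = w ^ d at hcw
    have hcy : c ∉ (e.hom x).asHomogeneousIdeal.toIdeal := fun h =>
      hwx (x.isPrime.mem_of_pow_mem d (hcw ▸ ((hid x).le h : φ.toRingHom c ∈ x.asHomogeneousIdeal.toIdeal)))
    have hcm : c • m = 0 := hv (by
      rw [map_smulₛₗ, map_zero]
      change φ c • v m = 0
      obtain ⟨d', rfl⟩ : ∃ d', d = d' + 1 := ⟨d - 1, by omega⟩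
      rw [hcw, pow_succ, mul_smul, hw0, smul_zero])
    rw [← LocalizedModule.zero_mk 1, LocalizedModule.mk_eq]
    exact ⟨⟨c, hcy⟩, by simp [Submonoid.smul_def, hcm]⟩
  · intro t
    have hpre : Proj.basicOpen 𝒜 (φ g) ≤ e.hom ⁻¹ᵁ Proj.basicOpen ℬ g := fun x hx h => hx ((hid x).le h)
    have hpre' : ∀ x : ↥(e.hom ⁻¹ᵁ Proj.basicOpen ℬ g), x.1 ∈ Proj.basicOpen 𝒜 (φ g) := fun x => nin e hid x.1 x.2
    obtain ⟨k, i, m, hm, hi, hval⟩ := exists_eq_frac (Nat.mul_pos he₀ hd) (ConeRetrLib.ver_mem hdeg hg)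
      ((GrTilde.tilde 𝒜 ℳ (n * d)).presheaf.map (homOfLE hpre).op t)
    have hi' : (i : ℤ) = ((k : ℤ) * e₀ + n) * d := by rw [hi]; push_cast; ring
    have hj : 0 ≤ (k : ℤ) * e₀ + n :=
      nonneg_of_mul_nonneg_left (hi' ▸ Int.natCast_nonneg i) (by exact_mod_cast hd)
    obtain ⟨j, hj'⟩ := Int.eq_ofNat_of_zero_le hj
    have hij : i = j * d := Int.natCast_inj.mp (by rw [hi', hj']; push_cast; rfl)
    subst hij
    obtain ⟨n₀, hn₀, rfl⟩ := (hvdeg j).ge hm
    refine ⟨fracSec (V := Proj.basicOpen ℬ g) hn₀ (SetLike.pow_mem_graded k hg) (by rw [smul_eq_mul]; push_cast; omega)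
      (fun y => pow_nin y k), sec_ext fun x => ?_⟩
    refine Eq.trans ?_ (hval ⟨x.1, hpre' x⟩).symm
    refine (congrArg (psi e hid v x.1) (val_fracSec _ _ _ _ _)).trans ((psi_mk e hid v x.1 _ _).trans ?_)
    exact congrArg (LocalizedModule.mk _) (Subtype.ext (map_pow φ g k))

theorem isIso_hom (hv : Function.Injective v) : IsIso (hom e hid v hd hdeg he n hvdeg) := by
  refine isIso_of_bijective_basis _ (fun i : ConeRetrLib.Idx ℬ => Proj.basicOpen ℬ i.el) (fun V y hy => ?_)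
    (bijective_hom e hid v hd hdeg he n hvdeg hv)
  obtain ⟨k, g, hk, hg, hyg, hgV⟩ := exists_homogeneous_basicOpen ℬ hy
  exact ⟨⟨k, g, hk, hg⟩, hyg, hgV⟩

include hd hdeg he hvdeg hid in
theorem nonempty_tilde_iso (hv : Function.Injective v) :
    Nonempty (GrTilde.tilde 𝒜 ℳ (n * d) ≅ (Scheme.Modules.pullback e.hom).obj (GrTilde.tilde ℬ 𝒩 n)) := by
  haveI := isIso_hom e hid v hd hdeg he n hvdeg hv
  exact ⟨((QuotSchLib.pullbackIsoPush e).app _ ≪≫
    (Scheme.Modules.pushforward e.inv).mapIso (asIso (hom e hid v hd hdeg he n hvdeg)) ≪≫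
    ((Scheme.Modules.pushforwardComp e.hom e.inv ≪≫ Scheme.Modules.pushforwardCongr e.hom_inv_id ≪≫
      Scheme.Modules.pushforwardId _).app _)).symm⟩

end VerTwistLib

end
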