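import Groth.Agent.GrTildeLib.MulTwist
import Groth.Agent.QCohLib.AffineFinite

/-!
# `M~ ⊗ O(nd) ≅ M(nd)~` where `O(d)` is invertible
-/

set_option autoImplicit false
universe u

open CategoryTheory AlgebraicGeometry TopologicalSpace Opposite TensorProduct
open GrTildeLib
open AmpleLib (res GenAt shT)

noncomputable section

namespace VerTwistLib

theorem bijective_stalk_of_bilin {X : Scheme.{u}} {M N P : X.Modules} (φ : CohB1.tensorMod M N ⟶ P) {x : X}
    {D : X.Opens} (hx : x ∈ D) (e : Γ(N, D)) (he : GenAt N e hx)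
    (hb : ∀ (V : X.Opens) (hV : V ≤ D), Function.Bijective fun a : Γ(M, V) => φ.app V (shT a (res N hV e))) :
    Function.Bijective ((DerSch.stalkFunctor X x).map φ).hom := by
  let f := ((DerSch.stalkFunctor X x).map φ).hom
  let τ : M.presheaf.stalk x → (CohB1.tensorMod M N).presheaf.stalk x := fun a =>
    KFlatLib.stalkTensorLin M N x (a ⊗ₜ N.presheaf.germ D x hx e)
  have hτ : Function.Bijective τ := (KFlatLib.stalkTensorLin_bijective M N x).comp
    (bijective_tmul_gen (S := X.presheaf.stalk x) (A := M.presheaf.stalk x) _ he)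
  refine (Function.Bijective.of_comp_iff f hτ).mp ?_
  have key : ∀ (V : X.Opens) (hxV : x ∈ V) (hV : V ≤ D) (a : Γ(M, V)),
      f (τ (M.presheaf.germ V x hxV a)) = P.presheaf.germ V x hxV (φ.app V (shT a (res N hV e))) := by
    intro V hxV hV a
    change f (KFlatLib.stalkTensorLin M N x (_ ⊗ₜ N.presheaf.germ D x hx e)) = _
    rw [← AmpleLib.germ_res N hV e hxV, KFlatLib.stalkTensorLin_germ]
    exact DerSch.stalkFunctor_map_germ x φ V hxV (shT a (res N hV e))
  refine ⟨fun a a' haa => ?_, fun p => ?_⟩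
  · obtain ⟨U, hU, t, rfl⟩ := M.presheaf.exists_germ_eq (x := x) a
    obtain ⟨U', hU', t', rfl⟩ := M.presheaf.exists_germ_eq (x := x) a'
    have hxT : x ∈ U ⊓ U' ⊓ D := ⟨⟨hU, hU'⟩, hx⟩
    have h1 : U ⊓ U' ⊓ D ≤ U := inf_le_left.trans inf_le_left
    have h2 : U ⊓ U' ⊓ D ≤ U' := inf_le_left.trans inf_le_right
    rw [← AmpleLib.germ_res M h1 t hxT, ← AmpleLib.germ_res M h2 t' hxT] at haa ⊢
    simp only [Function.comp_apply] at haa
    rw [key _ hxT inf_le_right, key _ hxT inf_le_right] at haa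
    obtain ⟨W, hxW, i, i', hW⟩ := TopCat.Presheaf.germ_eq _ _ hxT hxT _ _ haa
    obtain rfl : i' = i := Subsingleton.elim _ _
    have hWD : W ≤ D := i'.le.trans inf_le_right
    have e1 : ∀ z : Γ(M, U ⊓ U' ⊓ D), P.presheaf.map i'.op (φ.app _ (shT z (res N inf_le_right e))) =
        φ.app W (shT (res M i'.le z) (res N hWD e)) := by
      intro z
      rw [← QCohLib.app_map φ]
      exact congrArg (φ.app W) ((AmpleLib.shT_res i'.le z _).trans
        (congrArg (shT (res M i'.le z)) (AmpleLib.res_res N _ _ e)))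
    rw [e1, e1] at hW
    have h3 := congrArg (M.presheaf.germ W x hxW) ((hb W hWD).1 hW)
    simpa only [AmpleLib.germ_res] using h3
  · obtain ⟨U, hU, t, rfl⟩ := P.presheaf.exists_germ_eq (x := x) p
    obtain ⟨a, ha⟩ := (hb (U ⊓ D) inf_le_right).2 (res P inf_le_left t)
    refine ⟨M.presheaf.germ (U ⊓ D) x ⟨hU, hx⟩ a, (key (U ⊓ D) ⟨hU, hx⟩ inf_le_right a).trans ?_⟩
    rw [show φ.app (U ⊓ D) (shT a (res N inf_le_right e)) = res P inf_le_left t from ha, AmpleLib.germ_res]

variable {R A : Type u} [CommRing R] [CommRing A] [Algebra R A] {𝒜 : ℕ → Submodule R A} [GradedAlgebra 𝒜]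
  {M : Type u} [AddCommGroup M] [Module R M] [Module A M] {ℳ : ℕ → Submodule R M} [SetLike.GradedSMul 𝒜 ℳ]

/-- powers of a fraction of degree `d` -/
def unitOfPow {U : (Proj 𝒜).Opens} {d : ℕ} {i j : ℕ} {a b : A} (ha : a ∈ 𝒜 i) (hb : b ∈ 𝒜 j) (hij : i = j + d)
    (han : ∀ x : U, a ∉ x.1.asHomogeneousIdeal) (hbn : ∀ x : U, b ∉ x.1.asHomogeneousIdeal) :
    ∀ m : ℤ, TwistLib.Unit' 𝒜 (m * d) U
  | (m : ℕ) => ⟨m * i, m * j, a ^ m, b ^ m, by simpa using SetLike.pow_mem_graded m ha,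
      by simpa using SetLike.pow_mem_graded m hb, by subst hij; push_cast; ring,
      fun x h => han x (x.1.isPrime.mem_of_pow_mem m h), fun x h => hbn x (x.1.isPrime.mem_of_pow_mem m h)⟩
  | Int.negSucc m => ⟨(m + 1) * j, (m + 1) * i, b ^ (m + 1), a ^ (m + 1),
      by simpa using SetLike.pow_mem_graded (m + 1) hb, by simpa using SetLike.pow_mem_graded (m + 1) ha,
      by subst hij; rw [Int.negSucc_eq]; push_cast; ring,
      fun x h => hbn x (x.1.isPrime.mem_of_pow_mem (m + 1) h),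
      fun x h => han x (x.1.isPrime.mem_of_pow_mem (m + 1) h)⟩

/-- `M~(p) ⊗ O(n) ≅ M(p + n)~` on an open covered by invertible fractions of degree `n` -/
theorem twistBy_restrict_iso {p n q : ℤ} (hq : p + n = q) (W : (Proj 𝒜).Opens)
    (hcov : ∀ x ∈ W, ∃ U : (Proj 𝒜).Opens, x ∈ U ∧ Nonempty (TwistLib.Unit' 𝒜 n U)) :
    Nonempty ((CohB1.tensorMod (GrTilde.tilde 𝒜 ℳ p) (Twist.twist 𝒜 n)).restrict W.ι ≅
      (GrTilde.tilde 𝒜 ℳ q).restrict W.ι) := by
  obtain ⟨φ, hφ⟩ := exists_tens_hom (M := GrTilde.tilde 𝒜 ℳ p) (N := Twist.twist 𝒜 n) (P := GrTilde.tilde 𝒜 ℳ q)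
    (fun V => mulSec hq)
    (fun V m m' w => sec_ext fun x => by simp only [val_mulSec, GrTildeLib.val_add, smul_add])
    (fun V m w w' => sec_ext fun x => by simp only [val_mulSec, GrTildeLib.val_add, twistVal_add, add_smul])
    (fun V r m w => sec_ext fun x => by
      simp only [val_mulSec, GrTildeLib.val_smul]
      exact smul_comm _ _ _)
    (fun V r m w => sec_ext fun x => by
      simp only [val_mulSec, GrTildeLib.val_smul, TwistLib.val_smul, mul_smul])
    (fun V W h m w => rfl)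
  haveI : IsIso ((Scheme.Modules.restrictFunctor W.ι).map φ) := by
    rw [Scheme.Modules.Hom.isIso_iff_isIso_app]
    intro V
    change IsIso (φ.app (W.ι ''ᵁ V))
    refine (ConcreteCategory.isIso_iff_bijective _).mpr ?_
    refine TopCat.Presheaf.app_bijective_of_stalkFunctor_map_bijective
      (C := AddCommGrpCat.{u}) ((QCohLib.toAbF (Proj 𝒜)).map φ) (W.ι ''ᵁ V) fun x hx => ?_
    have hxW : x ∈ W := by
      obtain ⟨y, -, rfl⟩ := hx
      exact y.2
    obtain ⟨U, hxU, ⟨u⟩⟩ := hcov x hxW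
    refine bijective_stalk_of_bilin φ hxU u.sec (u.genOn.genAt hxU) fun V hV => ?_
    simp only [hφ]
    exact mulSec_gen_bijective hq u V hV
  exact ⟨asIso ((Scheme.Modules.restrictFunctor W.ι).map φ)⟩

end VerTwistLib

end
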